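import Cfsg.Agent.EqLemmas
import Mathlib

/-!
# Finite subgroups of `PGL₃` without elations: lifts

* `Setup` : an embedding of a group into `PGL₃(K)` whose image contains no elation;
* `Setup.Lift`, `Setup.comm_scalar`, `Setup.comm_eq` : lifts of commuting elements;
* `Setup.rebase` : a change of coordinates;
* `exists_diag` : matrices of finite order prime to the characteristic are diagonalisable.
-/

set_option autoImplicit false

namespace Cfsg.Agent.Mitchell

open Matrix

/-- `3 × 3` matrices. -/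
abbrev M3 (K : Type*) : Type _ := Matrix (Fin 3) (Fin 3) K

/-- `PGL₃`. -/
abbrev PGL3 (K : Type*) [CommRing K] : Type _ := Matrix.ProjGenLinGroup (Fin 3) K

/-- A scalar multiple of a transvection. -/
def IsTv {K : Type*} [Field K] (X : M3 K) : Prop :=
  ∃ (a : K) (v w : Fin 3 → K), a ≠ 0 ∧ v ≠ 0 ∧ w ≠ 0 ∧ w ⬝ᵥ v = 0 ∧
    X = a • (1 + vecMulVec v w)

/-- An embedding into `PGL₃(K)` without elations in the image. -/
structure Setup (G : Type*) [Group G] (K : Type*) [Field K] where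
  φ : G →* PGL3 K
  inj : Function.Injective φ
  noTv : ∀ (g : G) (u : GL (Fin 3) K), ProjGenLinGroup.mk u = φ g → ¬ IsTv (u : M3 K)

namespace Setup

variable {G : Type*} [Group G] {K : Type*} [Field K] (S : Setup G K)

/-- `X` is a matrix over the image of `g`. -/
def Lift (g : G) (X : M3 K) : Prop := ∃ u : GL (Fin 3) K, (u : M3 K) = X ∧ ProjGenLinGroup.mk u = S.φ g

theorem exists_lift (g : G) : ∃ X, S.Lift g X := by
  obtain ⟨u, hu⟩ := ProjGenLinGroup.mk_surjective (S.φ g)
  exact ⟨u, u, rfl, hu⟩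

theorem lift_one : S.Lift 1 1 := ⟨1, rfl, by simp⟩

variable {S}

theorem Lift.mul {g h : G} {X Y : M3 K} (hX : S.Lift g X) (hY : S.Lift h Y) : S.Lift (g * h) (X * Y) := by
  obtain ⟨u, rfl, hu⟩ := hX
  obtain ⟨v, rfl, hv⟩ := hY
  exact ⟨u * v, by simp, by simp [hu, hv]⟩

theorem Lift.pow {g : G} {X : M3 K} (hX : S.Lift g X) : ∀ n : ℕ, S.Lift (g ^ n) (X ^ n)
  | 0 => by simpa using S.lift_one
  | n + 1 => by rw [pow_succ, pow_succ]; exact (hX.pow n).mul hX

theorem Lift.det_ne_zero {g : G} {X : M3 K} (hX : S.Lift g X) : X.det ≠ 0 := by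
  obtain ⟨u, rfl, -⟩ := hX
  exact u.det_ne_zero

theorem Lift.smul {g : G} {X : M3 K} (hX : S.Lift g X) {c : K} (hc : c ≠ 0) : S.Lift g (c • X) := by
  obtain ⟨u, rfl, hu⟩ := hX
  refine ⟨u * GeneralLinearGroup.scalar (Fin 3) (Units.mk0 c hc), ?_, ?_⟩
  · rw [Units.val_mul, GeneralLinearGroup.coe_scalar]
    ext i j; simp [Matrix.mul_diagonal, mul_comm]
  · rw [map_mul, ProjGenLinGroup.mk_scalar, mul_one, hu]

theorem Lift.unique {g : G} {X Y : M3 K} (hX : S.Lift g X) (hY : S.Lift g Y) :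
    ∃ c : K, c ≠ 0 ∧ Y = c • X := by
  obtain ⟨u, rfl, hu⟩ := hX
  obtain ⟨v, rfl, hv⟩ := hY
  obtain ⟨z, hz⟩ := ProjGenLinGroup.mk_eq_mk_iff.1 (hu.trans hv.symm)
  refine ⟨z, z.ne_zero, ?_⟩
  rw [← hz, Units.val_mul, GeneralLinearGroup.coe_scalar]
  ext i j; simp [Matrix.mul_diagonal, mul_comm]

theorem Lift.eq {g h : G} {X : M3 K} (hX : S.Lift g X) (hX' : S.Lift h X) : g = h := by
  obtain ⟨u, rfl, hu⟩ := hX
  obtain ⟨v, hv, hv'⟩ := hX'
  obtain rfl : v = u := Units.ext hv
  exact S.inj (hu.symm.trans hv')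

theorem Lift.eq_one {g : G} {c : K} (hX : S.Lift g (c • (1 : M3 K))) : g = 1 := by
  have hc : c ≠ 0 := fun h => hX.det_ne_zero (by rw [h, zero_smul, Matrix.det_zero])
  exact hX.eq (S.lift_one.smul hc)

theorem Lift.eq_one_of_diag {g : G} {c : K} (hX : S.Lift g (diagonal fun _ => c)) : g = 1 :=
  Lift.eq_one (c := c) (by rwa [show c • (1 : M3 K) = diagonal fun _ => c by
    rw [← diagonal_one, ← diagonal_smul]; congr 1; funext i; simp])

theorem Lift.not_tv {g : G} {X : M3 K} (hX : S.Lift g X) : ¬ IsTv X := by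
  obtain ⟨u, rfl, hu⟩ := hX
  exact S.noTv g u hu

/-- Lifts of commuting elements commute up to a cube root of unity. -/
theorem comm_scalar {g h : G} (hgh : g * h = h * g) {X Y : M3 K} (hX : S.Lift g X) (hY : S.Lift h Y) :
    ∃ c : K, c ^ 3 = 1 ∧ Y * X = c • (X * Y) := by
  obtain ⟨c, hc, he⟩ := (hX.mul hY).unique (hgh ▸ hY.mul hX)
  refine ⟨c, ?_, he⟩
  have h1 := congrArg Matrix.det he
  rw [det_smul, Fintype.card_fin, det_mul, det_mul, mul_comm Y.det] at h1
  exact (mul_right_eq_self₀.1 (by rw [mul_comm]; exact h1.symm)).resolve_right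
    (mul_ne_zero hX.det_ne_zero hY.det_ne_zero)

theorem comm_pow {X Y : M3 K} {c : K} (h : Y * X = c • (X * Y)) : ∀ n : ℕ,
    Y * X ^ n = c ^ n • (X ^ n * Y)
  | 0 => by simp
  | n + 1 => by
    rw [pow_succ' X, ← mul_assoc, h, smul_mul_assoc, mul_assoc, comm_pow h n, mul_smul_comm, smul_smul,
      ← pow_succ', mul_assoc]

/-- If a lift of `g` has a scalar power prime to `3`, lifts of commuting elements commute. -/
theorem comm_eq {g h : G} (hgh : g * h = h * g) {X Y : M3 K} (hX : S.Lift g X) (hY : S.Lift h Y)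
    {n : ℕ} {a : K} (hn : Nat.Coprime n 3) (hXn : X ^ n = a • (1 : M3 K)) : Y * X = X * Y := by
  obtain ⟨c, hc3, hc⟩ := comm_scalar hgh hX hY
  have h1 := comm_pow hc n
  rw [hXn, mul_smul_comm, mul_one, smul_mul_assoc, one_mul, smul_smul] at h1
  have ha : a ≠ 0 := fun h0 => (pow_ne_zero n hX.det_ne_zero) (by
    rw [← det_pow, hXn, h0, zero_smul, Matrix.det_zero])
  have hY0 : Y ≠ 0 := fun h0 => hY.det_ne_zero (by
    rw [h0, Matrix.det_zero])
  have hcn : c ^ n = 1 := by
    have h2 : a = c ^ n * a := smul_left_injective K hY0 h1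
    exact (mul_left_eq_self₀.1 h2.symm).resolve_right ha
  have : c = 1 := by
    have := pow_gcd_eq_one.2 ⟨hcn, hc3⟩
    rwa [show n.gcd 3 = 1 from hn, pow_one] at this
  rw [hc, this, one_smul]

/-- A change of coordinates. -/
noncomputable def rebase (S : Setup G K) (P : GL (Fin 3) K) : Setup G K where
  φ := (MulAut.conj (ProjGenLinGroup.mk P)).toMonoidHom.comp S.φ
  inj := (MulAut.conj (ProjGenLinGroup.mk P)).injective.comp S.inj
  noTv g u hu := by
    rintro ⟨a, v, w, ha, hv, hw, hwv, huv⟩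
    have h1 : ProjGenLinGroup.mk (P⁻¹ * u * P) = S.φ g := by
      rw [map_mul, map_mul, map_inv, hu]
      show _ * (ProjGenLinGroup.mk P * S.φ g * (ProjGenLinGroup.mk P)⁻¹) * _ = _
      group
    refine S.noTv g _ h1 ⟨a, (↑P⁻¹ : M3 K) *ᵥ v, w ᵥ* (P : M3 K), ha, ?_, ?_, ?_, ?_⟩
    · intro h0
      refine hv ?_
      have := congrArg (fun x => (P : M3 K) *ᵥ x) h0
      simpa [mulVec_mulVec] using this
    · intro h0
      refine hw ?_
      have := congrArg (fun x => x ᵥ* (↑P⁻¹ : M3 K)) h0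
      simpa [vecMul_vecMul] using this
    · rw [dotProduct_mulVec, vecMul_vecMul, ← Units.val_mul, mul_inv_cancel, Units.val_one, vecMul_one, hwv]
    · rw [Units.val_mul, Units.val_mul, huv, Matrix.mul_smul, Matrix.smul_mul, Matrix.mul_add, Matrix.add_mul,
        Matrix.mul_one, ← Units.val_mul, inv_mul_cancel, Units.val_one, Matrix.mul_vecMulVec,
        Matrix.vecMulVec_mul]

theorem rebase_lift {g : G} {X : M3 K} (hX : S.Lift g X) (P : GL (Fin 3) K) :
    (S.rebase P).Lift g ((P : M3 K) * X * (↑P⁻¹ : M3 K)) := by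
  obtain ⟨u, rfl, hu⟩ := hX
  refine ⟨P * u * P⁻¹, by simp, ?_⟩
  rw [map_mul, map_mul, map_inv, hu]
  rfl

end Setup

set_option maxHeartbeats 1000000 in
/-- A matrix of finite order prime to the characteristic is diagonalisable. -/
theorem exists_diag {K : Type*} [Field K] [IsAlgClosed K] {n : Type*} [Fintype n] [DecidableEq n]
    {X : Matrix n n K} {m : ℕ} (hX : X ^ m = 1) (hm : (m : K) ≠ 0) :
    ∃ (P : GL n K) (d : n → K), (P : Matrix n n K) * X * (↑P⁻¹ : Matrix n n K) = diagonal d := by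
  classical
  let f : Module.End K (n → K) := Matrix.toLin' X
  have hf : f ^ m = 1 := by
    show (Matrix.toLinAlgEquiv' X) ^ m = 1
    rw [← map_pow, hX, map_one]
  have hss : f.IsSemisimple := Module.End.isSemisimple_of_squarefree_aeval_eq_zero
    ((Polynomial.separable_X_pow_sub_C (1 : K) hm one_ne_zero).squarefree)
    (by simp [hf])
  have htop : ⨆ a : K, f.eigenspace a = ⊤ := by
    simp_rw [← hss.isFinitelySemisimple.maxGenEigenspace_eq_eigenspace]
    exact Module.End.iSup_maxGenEigenspace_eq_top f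
  have hint : DirectSum.IsInternal fun a : K => f.eigenspace a := by
    rw [DirectSum.isInternal_submodule_iff_iSupIndep_and_iSup_eq_top]
    exact ⟨Module.End.eigenspaces_iSupIndep f, htop⟩
  let b := hint.collectedBasis fun a => Module.Free.chooseBasis K (f.eigenspace a)
  let e := b.indexEquiv (Pi.basisFun K n)
  let c : Module.Basis n K (n → K) := b.reindex e
  have hc : ∀ i, X *ᵥ c i = (e.symm i).1 • c i := by
    intro i
    have h1 : c i = b (e.symm i) := by simp [c]
    rw [h1]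
    have h2 : b (e.symm i) ∈ f.eigenspace (e.symm i).1 := hint.collectedBasis_mem _ _
    rw [Module.End.mem_eigenspace_iff] at h2
    exact h2
  let Q : Matrix n n K := (Pi.basisFun K n).toMatrix c
  haveI := (Pi.basisFun K n).invertibleToMatrix c
  obtain ⟨U, hU⟩ := isUnit_of_invertible Q
  refine ⟨U⁻¹, fun i => (e.symm i).1, ?_⟩
  have hXQ : X * (U : Matrix n n K) = (U : Matrix n n K) * diagonal fun i => (e.symm i).1 := by
    rw [hU]
    ext k i
    rw [Matrix.mul_diagonal]
    show (X *ᵥ c i) k = c i k * _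
    rw [hc i]; simp [mul_comm]
  rw [inv_inv, mul_assoc, hXQ, ← mul_assoc, ← Units.val_mul, inv_mul_cancel, Units.val_one, one_mul]

end Cfsg.Agent.Mitchell
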