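import Cfsg.Agent.Lib.Mitchell.NoElation.Involution

/-!
# Homology groups and frames of commuting involutions

* `Setup.IsHom u x` : `x` is a homology with the centre and axis of the involution `u`;
* `Setup.homGrp u` : these elements, a subgroup centralised by the centraliser of `u`;
* `Setup.Frame t u` : coordinates in which two commuting involutions are diagonal.
-/

set_option autoImplicit false
set_option linter.unusedSectionVars false

namespace Cfsg.Agent.Mitchell

open Matrix Subgroup

variable {G : Type*} [Group G] {K : Type*} [Field K]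

namespace Setup

variable (S : Setup G K)

/-- `x` has a lift in the algebra spanned by a lift of `u`. -/
def IsHom (u x : G) : Prop :=
  ∃ (X U : M3 K) (a b : K), S.Lift x X ∧ S.Lift u U ∧ X = a • (1 : M3 K) + b • U

variable {S}

theorem IsHom.self (u : G) : S.IsHom u u := by
  obtain ⟨U, hU⟩ := S.exists_lift u
  exact ⟨U, U, 0, 1, hU, hU, by simp⟩

theorem IsHom.one (u : G) : S.IsHom u 1 := by
  obtain ⟨U, hU⟩ := S.exists_lift u
  exact ⟨1, U, 1, 0, S.lift_one, hU, by simp⟩

/-- Any lift of the involution can be used. -/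
theorem IsHom.exists_coeff {u x : G} (h : S.IsHom u x) {U : M3 K} (hU : S.Lift u U) :
    ∃ (X : M3 K) (a b : K), S.Lift x X ∧ X = a • (1 : M3 K) + b • U := by
  obtain ⟨X, U', a, b, hX, hU', he⟩ := h
  obtain ⟨c, -, hc⟩ := hU.unique hU'
  exact ⟨X, a, b * c, hX, by rw [he, hc, smul_smul]⟩

theorem lift_sq {u : G} (hu : orderOf u = 2) {U : M3 K} (hU : S.Lift u U) :
    ∃ s : K, U ^ 2 = s • (1 : M3 K) := by
  obtain ⟨c, -, hc⟩ := S.lift_one.unique (show S.Lift 1 (U ^ 2) from by
    have := hU.pow 2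
    rwa [← hu, pow_orderOf_eq_one, hu] at this)
  exact ⟨c, hc⟩

theorem IsHom.mul {u x y : G} (hu : orderOf u = 2) (hx : S.IsHom u x) (hy : S.IsHom u y) :
    S.IsHom u (x * y) := by
  obtain ⟨U, hU⟩ := S.exists_lift u
  obtain ⟨X, a, b, hX, hXe⟩ := hx.exists_coeff hU
  obtain ⟨Y, a', b', hY, hYe⟩ := hy.exists_coeff hU
  obtain ⟨s, hs⟩ := lift_sq hu hU
  refine ⟨X * Y, U, a * a' + b * b' * s, a * b' + b * a', hX.mul hY, hU, ?_⟩
  rw [pow_two] at hs
  rw [hXe, hYe]
  simp only [add_mul, mul_add, smul_mul_assoc, mul_smul_comm, one_mul, mul_one, hs, smul_smul]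
  module

theorem IsHom.conj {u x : G} (h : S.IsHom u x) (g : G) : S.IsHom (g * u * g⁻¹) (g * x * g⁻¹) := by
  obtain ⟨X, U, a, b, hX, hU, he⟩ := h
  obtain ⟨W, hW⟩ := S.exists_lift g
  obtain ⟨W', hW'⟩ := S.exists_lift g⁻¹
  obtain ⟨c, -, hc⟩ := S.lift_one.unique (show S.Lift 1 (W * W') from by simpa using hW.mul hW')
  by_cases hc0 : c = 0
  · exact absurd (show (W * W').det = 0 by rw [hc, hc0, zero_smul, Matrix.det_zero])
      (by rw [det_mul]; exact mul_ne_zero hW.det_ne_zero hW'.det_ne_zero)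
  refine ⟨W * X * W', W * U * W', a * c, b, (hW.mul hX).mul hW', (hW.mul hU).mul hW', ?_⟩
  rw [he, mul_add, add_mul, mul_smul_comm, mul_one, smul_mul_assoc, hc, smul_smul, mul_smul_comm,
    smul_mul_assoc]

theorem IsHom.commute {u x h : G} (hu : orderOf u = 2) (hx : S.IsHom u x) (hh : h * u = u * h) :
    h * x = x * h := by
  obtain ⟨U, hU⟩ := S.exists_lift u
  obtain ⟨X, a, b, hX, hXe⟩ := hx.exists_coeff hU
  obtain ⟨H, hH⟩ := S.exists_lift h
  obtain ⟨s, hs⟩ := lift_sq hu hU
  have hc : H * U = U * H := Setup.comm_eq hh.symm hU hH (n := 2) (by norm_num) hs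
  refine (hH.mul hX).eq ?_
  rw [show H * X = X * H by
    rw [hXe, mul_add, add_mul, mul_smul_comm, mul_smul_comm, mul_one, smul_mul_assoc, smul_mul_assoc,
      one_mul, hc]]
  exact hX.mul hH

theorem IsHom.mem_centralizer {u x : G} (hu : orderOf u = 2) (hx : S.IsHom u x) :
    x ∈ centralizer ({u} : Set G) :=
  mem_centralizer_singleton_iff.2 (hx.commute hu rfl).symm

variable (S) in
/-- The homologies with centre and axis those of the involution `u`. -/
def homGrp [Finite G] (u : G) (hu : orderOf u = 2) : Subgroup G where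
  carrier := {x | S.IsHom u x}
  mul_mem' hx hy := IsHom.mul hu hx hy
  one_mem' := IsHom.one u
  inv_mem' {x} hx := by
    have hpow : ∀ n : ℕ, S.IsHom u (x ^ n) := fun n => by
      induction n with
      | zero => simpa using IsHom.one u
      | succ n ih => rw [pow_succ]; exact ih.mul hu hx
    show S.IsHom u x⁻¹
    rw [inv_eq_of_mul_eq_one_right (a := x) (b := x ^ (orderOf x - 1))
      (by rw [← pow_succ', Nat.sub_add_cancel (orderOf_pos x), pow_orderOf_eq_one])]
    exact hpow _

@[simp] theorem mem_homGrp [Finite G] {u : G} {hu : orderOf u = 2} {x : G} :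
    x ∈ S.homGrp u hu ↔ S.IsHom u x := Iff.rfl

theorem rebase_isHom {u x : G} (h : S.IsHom u x) (P : GL (Fin 3) K) : (S.rebase P).IsHom u x := by
  obtain ⟨X, U, a, b, hX, hU, he⟩ := h
  refine ⟨_, _, a, b, rebase_lift hX P, rebase_lift hU P, ?_⟩
  rw [he, mul_add, add_mul, mul_smul_comm, mul_one, smul_mul_assoc, ← Units.val_mul, mul_inv_cancel,
    Units.val_one, mul_smul_comm, smul_mul_assoc]

theorem rebase_rebase (P : GL (Fin 3) K) : (S.rebase P).rebase P⁻¹ = S := by
  obtain ⟨φ, _, _⟩ := S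
  simp only [rebase, Setup.mk.injEq]
  ext g
  simp [MulAut.conj_apply, mul_assoc]

theorem isHom_rebase_iff {u x : G} (P : GL (Fin 3) K) : (S.rebase P).IsHom u x ↔ S.IsHom u x :=
  ⟨fun h => by simpa [rebase_rebase] using rebase_isHom h P⁻¹, fun h => rebase_isHom h P⟩

theorem Based.isHom_iff {t : G} (B : S.Based t) (ht : orderOf t = 2) {x : G} :
    S.IsHom t x ↔ ∃ hx : x ∈ centralizer ({t} : Set G), B.ρ ⟨x, hx⟩ = 1 := by
  constructor
  · intro h
    obtain ⟨X, a, b, hX, he⟩ := h.exists_coeff B.1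
    refine ⟨h.mem_centralizer ht, (B.ρ_eq_one_iff _ hX).2 ⟨a + b, a - b, ?_⟩⟩
    rw [he]
    ext i j
    fin_cases i <;> fin_cases j <;> simp [T0, sub_eq_add_neg]
  · rintro ⟨hx, h⟩
    obtain ⟨X, hX⟩ := S.exists_lift x
    obtain ⟨a, b, rfl⟩ := (B.ρ_eq_one_iff ⟨x, hx⟩ hX).1 h
    refine ⟨_, _, (a + b) / 2, (a - b) / 2, hX, B.1, ?_⟩
    have := B.2
    ext i j
    fin_cases i <;> fin_cases j <;> simp [T0] <;> field_simp <;> ring

end Setup

/-- `diag(-1, 1, -1)`. -/
def T1 : M3 K := diagonal ![-1, 1, -1]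

/-- Coordinates in which two commuting involutions are diagonal. -/
structure Setup.Frame (S : Setup G K) (t u : G) : Prop where
  based : S.Based t
  lift : S.Lift u T1
  ord : orderOf u = 2

namespace Setup.Frame

variable {S : Setup G K} {t u : G} (F : S.Frame t u)
include F

theorem lift_mul : S.Lift (t * u) (diagonal ![-1, -1, 1]) := by
  have := F.based.1.mul F.lift
  rw [T0, T1, diagonal_mul_diagonal] at this
  convert this using 2
  funext i; fin_cases i <;> simp

theorem commute : t * u = u * t := by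
  have h := F.lift.mul F.based.1
  rw [T0, T1, diagonal_mul_diagonal] at h
  refine F.lift_mul.eq ?_
  convert h using 2
  funext i; fin_cases i <;> simp

theorem T1_sq : (T1 : M3 K) ^ 2 = (1 : K) • (1 : M3 K) := by
  rw [one_smul, pow_two, T1, diagonal_mul_diagonal, ← diagonal_one]
  congr 1; funext i; fin_cases i <;> simp

theorem diag {x : G} (hxt : x ∈ centralizer ({t} : Set G)) (hxu : x ∈ centralizer ({u} : Set G))
    {X : M3 K} (hX : S.Lift x X) : ∃ d : Fin 3 → K, X = diagonal d := by
  obtain ⟨h01, h02, h10, h20⟩ := F.based.block hxt hX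
  have hc := Setup.comm_eq (mem_centralizer_singleton_iff.1 hxu).symm F.lift hX (n := 2) (by norm_num)
    F.T1_sq
  have e12 := congrFun (congrFun hc 1) 2
  have e21 := congrFun (congrFun hc 2) 1
  simp [T1, mul_diagonal, diagonal_mul] at e12 e21
  have h12 : X 1 2 = 0 := (mul_eq_zero.1 (show (2 : K) * X 1 2 = 0 by linear_combination -e12)).resolve_left
    F.based.2
  have h21 : X 2 1 = 0 := (mul_eq_zero.1 (show (2 : K) * X 2 1 = 0 by linear_combination e21)).resolve_left
    F.based.2
  refine ⟨fun i => X i i, ?_⟩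
  ext i j
  fin_cases i <;> fin_cases j <;> simp [h01, h02, h10, h20, h12, h21]

theorem comm {x y : G} (hxt : x ∈ centralizer ({t} : Set G)) (hxu : x ∈ centralizer ({u} : Set G))
    (hyt : y ∈ centralizer ({t} : Set G)) (hyu : y ∈ centralizer ({u} : Set G)) : x * y = y * x := by
  obtain ⟨X, hX⟩ := S.exists_lift x
  obtain ⟨Y, hY⟩ := S.exists_lift y
  obtain ⟨d, rfl⟩ := F.diag hxt hxu hX
  obtain ⟨e, rfl⟩ := F.diag hyt hyu hY
  refine (hX.mul hY).eq ?_
  rw [show diagonal d * diagonal e = diagonal e * diagonal d by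
    simp [diagonal_mul_diagonal, mul_comm]]
  exact hY.mul hX

/-- The image on the axis of the common centraliser is cyclic. -/
theorem isCyclic_image [Finite G] : IsCyclic
    (((centralizer ({u} : Set G)).subgroupOf (centralizer ({t} : Set G))).map F.based.ρ) := by
  classical
  set A := (centralizer ({u} : Set G)).subgroupOf (centralizer ({t} : Set G)) with hA
  have hex : ∀ x : A, ∃ r : K, ∀ d : Fin 3 → K, S.Lift (x.1 : G) (diagonal d) → d 1 = r * d 2 := by
    intro x
    obtain ⟨X, hX⟩ := S.exists_lift (x.1 : G)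
    obtain ⟨d, rfl⟩ := F.diag x.1.2 x.2 hX
    refine ⟨d 1 / d 2, fun d' h' => ?_⟩
    obtain ⟨c, -, hc⟩ := hX.unique h'
    have hd2 : d 2 ≠ 0 := fun h => hX.det_ne_zero (by rw [det_diagonal, Fin.prod_univ_three, h, mul_zero])
    have e1 := congrFun (congrFun hc 1) 1
    have e2 := congrFun (congrFun hc 2) 2
    simp at e1 e2
    rw [e1, e2]
    field_simp
  choose r hr using hex
  have hmk : ∀ x : A, ∃ d : Fin 3 → K, d 2 ≠ 0 ∧ S.Lift (x.1 : G) (diagonal d) := by
    intro x
    obtain ⟨X, hX⟩ := S.exists_lift (x.1 : G)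
    obtain ⟨d, rfl⟩ := F.diag x.1.2 x.2 hX
    exact ⟨d, fun h => hX.det_ne_zero (by rw [det_diagonal, Fin.prod_univ_three, h, mul_zero]), hX⟩
  let f : A →* K :=
    { toFun := r
      map_one' := by
        have := hr 1 (fun _ => 1) (by simpa using S.lift_one)
        simpa using this.symm
      map_mul' := fun x y => by
        obtain ⟨d, hd, hx⟩ := hmk x
        obtain ⟨e, he, hy⟩ := hmk y
        have hm := hx.mul hy
        rw [diagonal_mul_diagonal] at hm
        have := hr (x * y) _ hm
        rw [hr x _ hx, hr y _ hy] at this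
        exact mul_right_cancel₀ (mul_ne_zero hd he) (by linear_combination -this) }
  have key : ∀ x : A, F.based.ρ x.1 = 1 ↔ f x = 1 := by
    intro x
    obtain ⟨d, hd, hx⟩ := hmk x
    constructor
    · intro h
      obtain ⟨a, b, hab⟩ := (F.based.ρ_eq_one_iff x.1 hx).1 h
      have h1 := congrFun (diagonal_injective hab) 1
      have h2 := congrFun (diagonal_injective hab) 2
      simp at h1 h2
      have := hr x _ hx
      show r x = 1
      rw [h1, ← h2] at this
      exact (mul_left_eq_self₀.1 this.symm).resolve_right hd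
    · intro h
      refine (F.based.ρ_eq_one_iff x.1 hx).2 ⟨d 0, d 2, ?_⟩
      have := hr x _ hx
      rw [show r x = 1 from h, one_mul] at this
      congr 1; funext i; fin_cases i <;> simp [this]
  have hex' : ∀ y : A.map F.based.ρ, ∃ x : A, F.based.ρ x.1 = y.1 := fun y => by
    obtain ⟨x, hx, hxy⟩ := y.2
    exact ⟨⟨x, hx⟩, hxy⟩
  choose pre hpre using hex'
  have hwd : ∀ x z : A, F.based.ρ x.1 = F.based.ρ z.1 → f x = f z := by
    intro x z hxz
    have h1 : f (x * z⁻¹) = 1 := (key _).1 (by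
      rw [Subgroup.coe_mul, Subgroup.coe_inv, map_mul, map_inv, hxz, mul_inv_cancel])
    have h2 : f (x * z⁻¹) * f z = f x := by rw [← map_mul, inv_mul_cancel_right]
    rw [← h2, h1, one_mul]
  let h : A.map F.based.ρ →* K :=
    { toFun := fun y => f (pre y)
      map_one' := (key _).1 (hpre 1)
      map_mul' := fun y z => by
        show f (pre (y * z)) = f (pre y) * f (pre z)
        rw [← map_mul]
        exact hwd _ _ (by rw [hpre, Subgroup.coe_mul, Subgroup.coe_mul, map_mul, hpre, hpre]) }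
  haveI : Finite (A.map F.based.ρ) := Finite.of_surjective (fun x : A => (⟨F.based.ρ x.1, x.1, x.2, rfl⟩ :
    A.map F.based.ρ)) fun y => ⟨pre y, Subtype.ext (hpre y)⟩
  refine isCyclic_of_subgroup_isDomain h fun y z hyz => Subtype.ext ?_
  rw [← hpre y, ← hpre z]
  have h1 : f (pre y * (pre z)⁻¹) = 1 := by
    have h3 : f (pre y * (pre z)⁻¹) * f (pre z) = 1 * f (pre z) := by
      rw [← map_mul, inv_mul_cancel_right, one_mul]; exact hyz
    have hne : f (pre z) ≠ 0 := fun h0 => one_ne_zero (α := K) (by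
      rw [← map_one f, ← inv_mul_cancel (pre z), map_mul, h0, mul_zero])
    exact mul_right_cancel₀ hne h3
  have := (key _).2 h1
  rwa [Subgroup.coe_mul, Subgroup.coe_inv, map_mul, map_inv, mul_inv_eq_one] at this

/-- The involutions of the common centraliser. -/
theorem involutions {x : G} (hx : orderOf x = 2) (hxt : x ∈ centralizer ({t} : Set G))
    (hxu : x ∈ centralizer ({u} : Set G)) : x = t ∨ x = u ∨ x = t * u := by
  obtain ⟨X, hX⟩ := S.exists_lift x
  obtain ⟨d, rfl⟩ := F.diag hxt hxu hX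
  obtain ⟨s, hs⟩ := lift_sq hx hX
  rw [diagonal_pow] at hs
  have hd : ∀ i, d i ^ 2 = s := fun i => by
    have := congrFun (congrFun hs i) i
    simpa using this
  have h0 : d 0 ≠ 0 := fun h => hX.det_ne_zero (by rw [det_diagonal, Fin.prod_univ_three, h]; simp)
  have key : ∀ i, d i = d 0 ∨ d i = -d 0 := fun i =>
    eq_or_eq_neg_of_sq_eq_sq _ _ ((hd i).trans (hd 0).symm)
  rcases key 1 with h1 | h1 <;> rcases key 2 with h2 | h2
  · exfalso
    have : diagonal d = diagonal fun _ => d 0 := by congr 1; funext i; fin_cases i <;> simp [h1, h2]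
    rw [this] at hX
    rw [hX.eq_one_of_diag, orderOf_one] at hx
    norm_num at hx
  · right; right
    refine hX.eq ?_
    convert F.lift_mul.smul (neg_ne_zero.2 h0) using 1
    rw [← diagonal_smul]; congr 1; funext i; fin_cases i <;> simp [h1, h2]
  · right; left
    refine hX.eq ?_
    convert F.lift.smul (neg_ne_zero.2 h0) using 1
    rw [T1, ← diagonal_smul]; congr 1; funext i; fin_cases i <;> simp [h1, h2]
  · left
    refine hX.eq ?_
    convert F.based.1.smul h0 using 1
    rw [T0, ← diagonal_smul]; congr 1; funext i; fin_cases i <;> simp [h1, h2]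

/-- An element of the common centraliser is a homology of one of the three involutions, or all
involutions commuting with it lie in the common centraliser. -/
theorem hom_or_regular {x : G} (hxt : x ∈ centralizer ({t} : Set G))
    (hxu : x ∈ centralizer ({u} : Set G)) :
    (S.IsHom t x ∨ S.IsHom u x ∨ S.IsHom (t * u) x) ∨
      ∀ s : G, orderOf s = 2 → s * x = x * s → s = t ∨ s = u ∨ s = t * u := by
  obtain ⟨X, hX⟩ := S.exists_lift x
  obtain ⟨d, rfl⟩ := F.diag hxt hxu hX
  have h2 := F.based.2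
  by_cases h12 : d 1 = d 2
  · refine Or.inl (Or.inl ⟨_, _, (d 0 + d 1) / 2, (d 0 - d 1) / 2, hX, F.based.1, ?_⟩)
    ext i j
    fin_cases i <;> fin_cases j <;> simp [T0, h12] <;> field_simp <;> ring
  by_cases h02 : d 0 = d 2
  · refine Or.inl (Or.inr (Or.inl ⟨_, _, (d 1 + d 0) / 2, (d 1 - d 0) / 2, hX, F.lift, ?_⟩))
    ext i j
    fin_cases i <;> fin_cases j <;> simp [T1, h02] <;> field_simp <;> ring
  by_cases h01 : d 0 = d 1
  · refine Or.inl (Or.inr (Or.inr ⟨_, _, (d 2 + d 0) / 2, (d 2 - d 0) / 2, hX, F.lift_mul, ?_⟩))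
    ext i j
    fin_cases i <;> fin_cases j <;> simp [h01] <;> field_simp <;> ring
  refine Or.inr fun s hs hsx => ?_
  obtain ⟨W, hW⟩ := S.exists_lift s
  obtain ⟨c, hc⟩ := lift_sq hs hW
  have hcomm := Setup.comm_eq hsx hW hX (n := 2) (by norm_num) hc
  have hoff : ∀ i j : Fin 3, i ≠ j → W i j = 0 := by
    intro i j hij
    have h := congrFun (congrFun hcomm i) j
    rw [diagonal_mul, mul_diagonal, mul_comm (W i j)] at h
    have hne : d i ≠ d j := by fin_cases i <;> fin_cases j <;> simp_all [Ne.symm]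
    by_contra hW0
    exact hne (mul_right_cancel₀ hW0 h)
  have hWd : W = diagonal fun i => W i i := by
    ext i j
    by_cases hij : i = j
    · simp [hij]
    · simp [hij, hoff i j hij]
  refine F.involutions hs ?_ ?_ <;> refine mem_centralizer_singleton_iff.2 ?_
  · refine (hW.mul F.based.1).eq ?_
    rw [hWd, T0, diagonal_mul_diagonal]
    convert F.based.1.mul hW using 1
    rw [hWd, T0, diagonal_mul_diagonal]; simp [mul_comm]
  · refine (hW.mul F.lift).eq ?_
    rw [hWd, T1, diagonal_mul_diagonal]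
    convert F.lift.mul hW using 1
    rw [hWd, T1, diagonal_mul_diagonal]; simp [mul_comm]

end Setup.Frame

/-- Two commuting involutions have a frame. -/
theorem Setup.Based.exists_frame [IsAlgClosed K] {S : Setup G K} {t : G} (B : S.Based t) {u : G}
    (hu : orderOf u = 2) (hut : u ∈ centralizer ({t} : Set G)) (hne : u ≠ t) :
    ∃ P : GL (Fin 3) K, (S.rebase P).Frame t u := by
  obtain ⟨X, hX⟩ := S.exists_lift u
  obtain ⟨s, hs⟩ := lift_sq hu hX
  obtain ⟨h01, h02, h10, h20⟩ := B.block hut hX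
  have hX0 : X 0 0 ≠ 0 := fun h => hX.det_ne_zero (by rw [det_eq_of_block h01 h02, h, zero_mul])
  have hs0 : X 0 0 * X 0 0 = s := by
    have := congrFun (congrFun hs 0) 0
    simpa [pow_two, Matrix.mul_apply, Fin.sum_univ_three, h01, h02] using this
  set Y := (-(X 0 0)⁻¹) • X with hYdef
  have hY : S.Lift u Y := hX.smul (neg_ne_zero.2 (inv_ne_zero hX0))
  have hY2 : Y ^ 2 = 1 := by
    rw [hYdef, smul_pow, hs, smul_smul, ← hs0]
    field_simp
    rw [one_smul]
  obtain ⟨g01, g02, g10, g20⟩ := B.block hut hY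
  have hY00 : Y 0 0 = -1 := by simp [hYdef, inv_mul_cancel₀ hX0]
  have hb2 : blk Y ^ 2 = 1 := by
    rw [pow_two, ← blk_mul ⟨g10, g20⟩, ← pow_two, hY2]
    ext i j; fin_cases i <;> fin_cases j <;> simp [blk]
  obtain ⟨P, d, hP⟩ := exists_diag hb2 (by exact_mod_cast B.2)
  have hd : ∀ i, d i = 1 ∨ d i = -1 := by
    intro i
    have h1 : diagonal d ^ 2 = (1 : Matrix (Fin 2) (Fin 2) K) := by
      rw [← hP, pow_two]
      calc (P : Matrix (Fin 2) (Fin 2) K) * blk Y * (↑P⁻¹ : Matrix (Fin 2) (Fin 2) K) *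
            ((P : Matrix (Fin 2) (Fin 2) K) * blk Y * (↑P⁻¹ : Matrix (Fin 2) (Fin 2) K))
          = (P : Matrix (Fin 2) (Fin 2) K) * blk Y * ((↑P⁻¹ : Matrix (Fin 2) (Fin 2) K) *
              (P : Matrix (Fin 2) (Fin 2) K)) * blk Y * (↑P⁻¹ : Matrix (Fin 2) (Fin 2) K) := by
            simp only [mul_assoc]
        _ = (P : Matrix (Fin 2) (Fin 2) K) * blk Y ^ 2 * (↑P⁻¹ : Matrix (Fin 2) (Fin 2) K) := by
            rw [← Units.val_mul, inv_mul_cancel, Units.val_one, mul_one, pow_two]
            simp only [mul_assoc]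
        _ = 1 := by rw [hb2, mul_one, ← Units.val_mul, mul_inv_cancel, Units.val_one]
    have h2' := congrFun (congrFun h1 i) i
    rw [pow_two, diagonal_mul_diagonal, diagonal_apply_eq, one_apply_eq] at h2'
    exact mul_self_eq_one_iff.1 h2'
  -- the block matrix
  let ext3 : Matrix (Fin 2) (Fin 2) K → M3 K := fun Q =>
    !![1, 0, 0; 0, Q 0 0, Q 0 1; 0, Q 1 0, Q 1 1]
  have hmul : ∀ A C : Matrix (Fin 2) (Fin 2) K, ext3 A * ext3 C = ext3 (A * C) := by
    intro A C
    ext i j
    fin_cases i <;> fin_cases j <;> simp [ext3, Matrix.mul_apply, Fin.sum_univ_three, Fin.sum_univ_two]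
  have hone : ext3 1 = 1 := by ext i j; fin_cases i <;> fin_cases j <;> simp [ext3]
  have hmain : ∀ Q : GL (Fin 2) K,
      (Q : Matrix (Fin 2) (Fin 2) K) * blk Y * (↑Q⁻¹ : Matrix (Fin 2) (Fin 2) K) = diagonal ![1, -1] →
      ∃ P : GL (Fin 3) K, (S.rebase P).Frame t u := by
    intro Q hQ
    refine ⟨⟨ext3 Q, ext3 (↑Q⁻¹ : Matrix (Fin 2) (Fin 2) K), by rw [hmul, ← Units.val_mul, mul_inv_cancel,
      Units.val_one, hone], by rw [hmul, ← Units.val_mul, inv_mul_cancel, Units.val_one, hone]⟩, ⟨?_, B.2⟩, ?_, hu⟩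
    · convert rebase_lift B.1 _ using 1
      show T0 = ext3 Q * T0 * ext3 (↑Q⁻¹ : Matrix (Fin 2) (Fin 2) K)
      rw [show ext3 Q * T0 = T0 * ext3 Q by
        refine (comm_T0_iff B.2).2 ⟨?_, ?_, ?_, ?_⟩ <;> simp [ext3]]
      rw [mul_assoc, hmul, ← Units.val_mul, mul_inv_cancel, Units.val_one, hone, mul_one]
    · convert rebase_lift hY _ using 1
      show T1 = ext3 Q * Y * ext3 (↑Q⁻¹ : Matrix (Fin 2) (Fin 2) K)
      have h00 := congrFun (congrFun hQ 0) 0
      have h01' := congrFun (congrFun hQ 0) 1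
      have h10' := congrFun (congrFun hQ 1) 0
      have h11 := congrFun (congrFun hQ 1) 1
      simp [blk, Matrix.mul_apply, Fin.sum_univ_two] at h00 h01' h10' h11
      ext i j
      fin_cases i <;> fin_cases j <;>
        simp [T1, ext3, Matrix.mul_apply, Matrix.vecMul, dotProduct, Fin.sum_univ_three, g01, g02, g10,
          g20, hY00] <;>
        (first
          | linear_combination -h00
          | linear_combination -h01'
          | linear_combination -h10'
          | linear_combination -h11)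
  rcases hd 0 with a | a <;> rcases hd 1 with b | b
  · exfalso
    refine hne ?_
    have hbY : blk Y = 1 := by
      have hd1 : diagonal d = 1 := by
        rw [← diagonal_one]; congr 1; funext i; fin_cases i <;> simp [a, b]
      rw [hd1] at hP
      have := congrArg (fun M => (↑P⁻¹ : Matrix (Fin 2) (Fin 2) K) * M * (P : Matrix (Fin 2) (Fin 2) K)) hP
      simpa [mul_assoc, ← Units.val_mul] using this
    refine hY.eq ?_
    convert B.1.smul (show (-1 : K) ≠ 0 by norm_num) using 1
    have e00 := congrFun (congrFun hbY 0) 0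
    have e01 := congrFun (congrFun hbY 0) 1
    have e10 := congrFun (congrFun hbY 1) 0
    have e11 := congrFun (congrFun hbY 1) 1
    simp [blk] at e00 e01 e10 e11
    ext i j
    fin_cases i <;> fin_cases j <;> simp [T0, g01, g02, g10, g20, hY00, e00, e01, e10, e11]
  · refine hmain P ?_
    rw [hP]; congr 1; funext i; fin_cases i <;> simp [a, b]
  · let w : GL (Fin 2) K := ⟨!![0, 1; 1, 0], !![0, 1; 1, 0], by ext i j; fin_cases i <;> fin_cases j <;> simp,
      by ext i j; fin_cases i <;> fin_cases j <;> simp⟩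
    refine hmain (w * P) ?_
    rw [Units.val_mul, _root_.mul_inv_rev, Units.val_mul,
      show (w : Matrix (Fin 2) (Fin 2) K) * (P : Matrix (Fin 2) (Fin 2) K) * blk Y *
        ((↑P⁻¹ : Matrix (Fin 2) (Fin 2) K) * (↑w⁻¹ : Matrix (Fin 2) (Fin 2) K)) =
        (w : Matrix (Fin 2) (Fin 2) K) * ((P : Matrix (Fin 2) (Fin 2) K) * blk Y *
          (↑P⁻¹ : Matrix (Fin 2) (Fin 2) K)) * (↑w⁻¹ : Matrix (Fin 2) (Fin 2) K) by simp only [mul_assoc], hP]
    ext i j
    fin_cases i <;> fin_cases j <;> simp [w, Matrix.mul_apply, Matrix.vecMul, dotProduct, Fin.sum_univ_two, diagonal_apply, a, b]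
  · exfalso
    have hbY : blk Y = -1 := by
      have hd1 : diagonal d = -1 := by
        rw [← diagonal_one, diagonal_neg]; congr 1; funext i; fin_cases i <;> simp [a, b]
      rw [hd1] at hP
      have := congrArg (fun M => (↑P⁻¹ : Matrix (Fin 2) (Fin 2) K) * M * (P : Matrix (Fin 2) (Fin 2) K)) hP
      simpa [mul_assoc, ← Units.val_mul] using this
    have e00 := congrFun (congrFun hbY 0) 0
    have e01 := congrFun (congrFun hbY 0) 1
    have e10 := congrFun (congrFun hbY 1) 0
    have e11 := congrFun (congrFun hbY 1) 1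
    simp [blk] at e00 e01 e10 e11
    have : Y = diagonal fun _ => (-1 : K) := by
      ext i j
      fin_cases i <;> fin_cases j <;> simp [g01, g02, g10, g20, hY00, e00, e01, e10, e11]
    rw [this] at hY
    rw [hY.eq_one_of_diag, orderOf_one] at hu
    norm_num at hu

end Cfsg.Agent.Mitchell
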