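import Cfsg.Agent.Lib.Mitchell.NoElation.Basic
import Cfsg.Agent.Lib.PSL2.Finite
import Cfsg.Agent.Lib.Transfer.NilpotentHall

/-!
# Involution centralisers in subgroups of `PGL₃` without elations

* `Setup.exists_based` : every involution is a homology `diag(1, -1, -1)` in suitable coordinates;
* `Setup.Based.ρ` : the action of the centraliser on the axis;
* `Setup.Based.ker_le_center`, `Setup.Based.isCyclic_ker` : the homologies with that centre and axis;
* `Setup.Based.not_dvd_card` : the centraliser has order prime to the characteristic;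
* `Setup.Based.polyhedral` : its image on the axis is `A₄`, `S₄`, `A₅` unless there is a normal 2-complement.
-/

set_option autoImplicit false
set_option linter.unusedSectionVars false

namespace Cfsg.Agent.Mitchell

open Matrix Subgroup
open Cfsg.Agent.PSL2 (PGL2)

variable {K : Type*} [Field K]

/-- `diag(1, -1, -1)`. -/
def T0 : M3 K := diagonal ![1, -1, -1]

/-- The lower block. -/
def blk (Y : M3 K) : Matrix (Fin 2) (Fin 2) K := Y.submatrix Fin.succ Fin.succ

theorem T0_sq : (T0 : M3 K) ^ 2 = (1 : K) • (1 : M3 K) := by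
  rw [one_smul, pow_two, T0, diagonal_mul_diagonal, ← diagonal_one]
  congr 1; funext i; fin_cases i <;> simp

theorem comm_T0_iff (h2 : (2 : K) ≠ 0) {Y : M3 K} :
    Y * T0 = T0 * Y ↔ Y 0 1 = 0 ∧ Y 0 2 = 0 ∧ Y 1 0 = 0 ∧ Y 2 0 = 0 := by
  have key : ∀ x : K, x = -x ↔ x = 0 := fun x => ⟨fun h => by
    have h1 : (2 : K) * x = 0 := by linear_combination h
    exact (mul_eq_zero.1 h1).resolve_left h2, fun h => by simp [h]⟩
  constructor
  · intro h
    have e01 := congrFun (congrFun h 0) 1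
    have e02 := congrFun (congrFun h 0) 2
    have e10 := congrFun (congrFun h 1) 0
    have e20 := congrFun (congrFun h 2) 0
    simp [T0, mul_diagonal, diagonal_mul] at e01 e02 e10 e20
    exact ⟨(key _).1 e01.symm, (key _).1 e02.symm, (key _).1 e10, (key _).1 e20⟩
  · rintro ⟨h1, h2, h3, h4⟩
    ext i j
    fin_cases i <;> fin_cases j <;> simp [T0, mul_diagonal, diagonal_mul, h1, h2, h3, h4]

theorem det_eq_of_block {Y : M3 K} (h01 : Y 0 1 = 0) (h02 : Y 0 2 = 0) :
    Y.det = Y 0 0 * (blk Y).det := by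
  rw [Matrix.det_fin_three, Matrix.det_fin_two, h01, h02]
  simp [blk]
  ring

theorem blk_mul {X Y : M3 K} (h : X 1 0 = 0 ∧ X 2 0 = 0) : blk (X * Y) = blk X * blk Y := by
  ext i j
  fin_cases i <;> fin_cases j <;> simp [blk, Matrix.mul_apply, Fin.sum_univ_three, Fin.sum_univ_two, h]

theorem blk_smul (c : K) (Y : M3 K) : blk (c • Y) = c • blk Y := by ext i j; simp [blk]

/-- A nilpotent `2 × 2` matrix is a rank one product. -/
theorem exists_vecMulVec {x y z : K} (h : x * x + y * z = 0) :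
    ∃ v w : Fin 2 → K, w ⬝ᵥ v = 0 ∧ vecMulVec v w = !![x, y; z, -x] := by
  by_cases hy : y = 0
  · subst hy
    have hx : x = 0 := by
      have : x * x = 0 := by simpa using h
      simpa using this
    subst hx
    exact ⟨![0, 1], ![z, 0], by simp [dotProduct, Fin.sum_univ_two],
      by ext i j; fin_cases i <;> fin_cases j <;> simp [vecMulVec]⟩
  · refine ⟨![y, -x], ![x / y, 1], ?_, ?_⟩
    · simp [dotProduct, Fin.sum_univ_two, div_mul_cancel₀ _ hy]
    · ext i j
      fin_cases i <;> fin_cases j <;> simp [vecMulVec, mul_div_cancel₀ _ hy]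
      field_simp
      linear_combination -h

variable {G : Type*} [Group G] {S : Setup G K}

/-- The involution is `diag(1, -1, -1)`. -/
def Setup.Based (S : Setup G K) (t : G) : Prop := S.Lift t T0 ∧ (2 : K) ≠ 0

namespace Setup.Based

variable {t : G} (B : S.Based t)
include B

theorem ne_one : t ≠ 1 := by
  rintro rfl
  obtain ⟨c, -, hc⟩ := S.lift_one.unique B.1
  have h0 := congrFun (congrFun hc 0) 0
  have h1 := congrFun (congrFun hc 1) 1
  simp [T0] at h0 h1
  exact B.2 (by linear_combination h0 - h1)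

theorem block {g : G} (hg : g ∈ centralizer ({t} : Set G)) {Y : M3 K} (hY : S.Lift g Y) :
    Y 0 1 = 0 ∧ Y 0 2 = 0 ∧ Y 1 0 = 0 ∧ Y 2 0 = 0 :=
  (comm_T0_iff B.2).1 (Setup.comm_eq (mem_centralizer_singleton_iff.1 hg).symm B.1 hY
    (n := 2) (by norm_num) T0_sq)

theorem blk_det {g : G} (hg : g ∈ centralizer ({t} : Set G)) {Y : M3 K} (hY : S.Lift g Y) :
    (blk Y).det ≠ 0 := fun h => hY.det_ne_zero (by
  rw [det_eq_of_block (B.block hg hY).1 (B.block hg hY).2.1, h, mul_zero])

/-- The action on the axis. -/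
noncomputable def toAxis (g : centralizer ({t} : Set G)) : PGL2 K :=
  ProjGenLinGroup.mk (GeneralLinearGroup.mkOfDetNeZero (blk (S.exists_lift g).choose)
    (B.blk_det g.2 (S.exists_lift g).choose_spec))

theorem toAxis_eq (g : centralizer ({t} : Set G)) {Y : M3 K} (hY : S.Lift g Y) :
    B.toAxis g = ProjGenLinGroup.mk (GeneralLinearGroup.mkOfDetNeZero (blk Y) (B.blk_det g.2 hY)) := by
  obtain ⟨c, hc, he⟩ := (S.exists_lift g).choose_spec.unique hY
  rw [toAxis, ProjGenLinGroup.mk_eq_mk_iff]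
  refine ⟨Units.mk0 c hc, Units.ext ?_⟩
  rw [Units.val_mul, GeneralLinearGroup.coe_scalar]
  ext i j
  simp [Matrix.mul_diagonal, he, blk_smul, mul_comm]

/-- The action on the axis, as a homomorphism. -/
noncomputable def ρ : centralizer ({t} : Set G) →* PGL2 K :=
  MonoidHom.mk' B.toAxis fun g h => by
    obtain ⟨X, hX⟩ := S.exists_lift (g : G)
    obtain ⟨Y, hY⟩ := S.exists_lift (h : G)
    rw [B.toAxis_eq g hX, B.toAxis_eq h hY, B.toAxis_eq (g * h) (hX.mul hY), ← map_mul]
    congr 1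
    ext1
    rw [Units.val_mul]
    exact blk_mul (B.block g.2 hX).2.2

theorem ρ_eq_one_iff (g : centralizer ({t} : Set G)) {Y : M3 K} (hY : S.Lift g Y) :
    B.ρ g = 1 ↔ ∃ a b : K, Y = diagonal ![a, b, b] := by
  obtain ⟨h01, h02, h10, h20⟩ := B.block g.2 hY
  show B.toAxis g = 1 ↔ _
  rw [B.toAxis_eq g hY, ← map_one (ProjGenLinGroup.mk (n := Fin 2) (R := K)),
    ProjGenLinGroup.mk_eq_mk_iff]
  constructor
  · rintro ⟨u, hu⟩
    refine ⟨Y 0 0, (u : K)⁻¹, ?_⟩
    have hu' := congrArg (fun x : GL (Fin 2) K => (x : Matrix (Fin 2) (Fin 2) K)) hu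
    simp [GeneralLinearGroup.coe_scalar, blk, ← Matrix.ext_iff, Fin.forall_fin_two, Matrix.mul_apply,
      Fin.sum_univ_two] at hu'
    obtain ⟨⟨e11, e12⟩, e21, e22⟩ := hu'
    ext i j
    fin_cases i <;> fin_cases j <;> simp [h01, h02, h10, h20, e12, e21] <;>
      first | exact eq_inv_of_mul_eq_one_left e11 | exact eq_inv_of_mul_eq_one_left e22
  · rintro ⟨a, b, rfl⟩
    have hb : b ≠ 0 := fun hb => hY.det_ne_zero (by rw [det_diagonal, Fin.prod_univ_three]; simp [hb])
    refine ⟨Units.mk0 b⁻¹ (inv_ne_zero hb), Units.ext ?_⟩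
    ext i j
    fin_cases i <;> fin_cases j <;>
      simp [GeneralLinearGroup.coe_scalar, blk, Matrix.mul_apply, Fin.sum_univ_two, mul_inv_cancel₀ hb]

theorem mem_self : t ∈ centralizer ({t} : Set G) := mem_centralizer_singleton_iff.2 rfl

theorem ρ_self : B.ρ ⟨t, B.mem_self⟩ = 1 :=
  (B.ρ_eq_one_iff ⟨t, B.mem_self⟩ B.1).2 ⟨1, -1, rfl⟩

theorem ker_le_center : B.ρ.ker ≤ center (centralizer ({t} : Set G)) := by
  intro g hg
  rw [Subgroup.mem_center_iff]
  intro h
  obtain ⟨X, hX⟩ := S.exists_lift (g : G)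
  obtain ⟨Y, hY⟩ := S.exists_lift (h : G)
  obtain ⟨a, b, rfl⟩ := (B.ρ_eq_one_iff g hX).1 hg
  obtain ⟨h01, h02, h10, h20⟩ := B.block h.2 hY
  refine Subtype.ext ((hY.mul hX).eq ?_)
  rw [show Y * diagonal ![a, b, b] = diagonal ![a, b, b] * Y by
    ext i j; fin_cases i <;> fin_cases j <;> simp [mul_diagonal, diagonal_mul, h01, h02, h10, h20, mul_comm]]
  exact hX.mul hY

/-- The ratio of a homology with the centre and axis of `t`. -/
theorem isCyclic_ker [Finite G] : IsCyclic B.ρ.ker := by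
  classical
  have hex : ∀ g : B.ρ.ker, ∃ r : Kˣ, ∀ a b : K, S.Lift (g.1 : G) (diagonal ![a, b, b]) → a = r * b := by
    intro g
    obtain ⟨X, hX⟩ := S.exists_lift (g.1 : G)
    obtain ⟨a, b, rfl⟩ := (B.ρ_eq_one_iff g.1 hX).1 g.2
    have hd := hX.det_ne_zero
    rw [det_diagonal, Fin.prod_univ_three] at hd
    simp at hd
    obtain ⟨ha, hb⟩ := hd
    refine ⟨Units.mk0 (a / b) (div_ne_zero ha hb), fun a' b' h' => ?_⟩
    obtain ⟨c, -, hc⟩ := hX.unique h'
    have e0 := congrFun (congrFun hc 0) 0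
    have e1 := congrFun (congrFun hc 1) 1
    simp at e0 e1
    rw [e0, e1, Units.val_mk0]
    field_simp
  choose r hr using hex
  have hmk : ∀ g : B.ρ.ker, ∃ a b : K, b ≠ 0 ∧ S.Lift (g.1 : G) (diagonal ![a, b, b]) := by
    intro g
    obtain ⟨X, hX⟩ := S.exists_lift (g.1 : G)
    obtain ⟨a, b, rfl⟩ := (B.ρ_eq_one_iff g.1 hX).1 g.2
    refine ⟨a, b, fun hb => hX.det_ne_zero ?_, hX⟩
    rw [det_diagonal, Fin.prod_univ_three]; simp [hb]
  let f : B.ρ.ker →* Kˣ := MonoidHom.mk' r fun g h => by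
    obtain ⟨a, b, hb, hg⟩ := hmk g
    obtain ⟨a', b', hb', hh⟩ := hmk h
    have hm := hg.mul hh
    rw [diagonal_mul_diagonal, show (fun i => ![a, b, b] i * ![a', b', b'] i) = ![a * a', b * b', b * b'] by
      funext i; fin_cases i <;> rfl] at hm
    have := hr (g * h) _ _ hm
    rw [hr g _ _ hg, hr h _ _ hh] at this
    refine Units.ext ?_
    rw [Units.val_mul]
    exact mul_right_cancel₀ (mul_ne_zero hb hb') (by linear_combination -this)
  have hinj : Function.Injective f := by
    rw [injective_iff_map_eq_one]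
    intro g hg
    obtain ⟨a, b, hb, hga⟩ := hmk g
    have := hr g _ _ hga
    rw [show r g = 1 from hg, Units.val_one, one_mul] at this
    refine Subtype.ext (Subtype.ext ?_)
    refine Setup.Lift.eq_one_of_diag (S := S) (c := b) ?_
    convert hga using 2
    funext i; fin_cases i <;> simp [this]
  exact isCyclic_of_subgroup_isDomain ((Units.coeHom K).comp f) (fun x y h => hinj (Units.ext h))

variable [IsAlgClosed K] [Finite G] (p : ℕ) [Fact p.Prime] [CharP K p]

theorem not_dvd_card : ¬ p ∣ Nat.card (centralizer ({t} : Set G)) := by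
  intro hdvd
  obtain ⟨g, hg⟩ := exists_prime_orderOf_dvd_card' p hdvd
  obtain ⟨X, hX⟩ := S.exists_lift (g : G)
  obtain ⟨c, hc, hcp⟩ := S.lift_one.unique (show S.Lift 1 (X ^ p) from by
    have := hX.pow p
    rwa [← SubgroupClass.coe_pow, ← hg, pow_orderOf_eq_one, OneMemClass.coe_one, hg] at this)
  obtain ⟨r, hr⟩ := IsAlgClosed.exists_pow_nat_eq c (Fact.out : p.Prime).pos
  have hr0 : r ≠ 0 := fun h => hc (by rw [← hr, h, zero_pow (Fact.out : p.Prime).ne_zero])
  set Y := r⁻¹ • X with hYdef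
  have hY : S.Lift (g : G) Y := hX.smul (inv_ne_zero hr0)
  have hYp : Y ^ p = 1 := by
    rw [hYdef, smul_pow, hcp, smul_smul, inv_pow, hr, inv_mul_cancel₀ hc, one_smul]
  obtain ⟨h01, h02, h10, h20⟩ := B.block g.2 hY
  haveI : CharP (M3 K) p := Matrix.charP p
  haveI : CharP (Matrix (Fin 2) (Fin 2) K) p := Matrix.charP p
  have hblk : ∀ n : ℕ, blk (Y ^ n) = blk Y ^ n ∧ (Y ^ n) 0 0 = Y 0 0 ^ n := by
    intro n
    induction n with
    | zero =>
      refine ⟨?_, by simp⟩
      rw [pow_zero, pow_zero]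
      ext i j; fin_cases i <;> fin_cases j <;> simp [blk]
    | succ n ih =>
      rw [pow_succ', blk_mul ⟨h10, h20⟩, ih.1, ← pow_succ']
      refine ⟨rfl, ?_⟩
      rw [Matrix.mul_apply, Fin.sum_univ_three, h01, h02, ih.2, pow_succ']
      simp
  have h00 : Y 0 0 = 1 := by
    have h1 := (hblk p).2
    rw [hYp, one_apply_eq] at h1
    have : (Y 0 0 - 1) ^ p = 0 := by rw [sub_pow_char, one_pow, ← h1, sub_self]
    exact sub_eq_zero.1 (pow_eq_zero_iff (Fact.out : p.Prime).ne_zero |>.1 this)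
  set N := blk Y - 1 with hN
  have hNp : N ^ p = 0 := by
    rw [hN, sub_pow_char_of_commute p (Commute.one_right _), one_pow, ← (hblk p).1, hYp]
    ext i j; fin_cases i <;> fin_cases j <;> simp [blk]
  have hnil : IsNilpotent N := ⟨p, hNp⟩
  have htr : N.trace = 0 := (Matrix.isNilpotent_trace_of_isNilpotent hnil).eq_zero
  have hdet : N.det = 0 := by
    have := congrArg Matrix.det hNp
    rw [det_pow, Matrix.det_zero] at this
    exact pow_eq_zero_iff (Fact.out : p.Prime).ne_zero |>.1 this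
  rw [Matrix.trace_fin_two] at htr
  rw [Matrix.det_fin_two] at hdet
  obtain ⟨v, w, hwv, hvw⟩ := exists_vecMulVec (x := N 0 0) (y := N 0 1) (z := N 1 0)
    (by linear_combination N 0 0 * htr - hdet)
  have hYeq : Y = 1 + vecMulVec ![0, v 0, v 1] ![0, w 0, w 1] := by
    have e00 := congrFun (congrFun hvw 0) 0
    have e01 := congrFun (congrFun hvw 0) 1
    have e10 := congrFun (congrFun hvw 1) 0
    have e11 := congrFun (congrFun hvw 1) 1
    simp [vecMulVec, hN, blk] at e00 e01 e10 e11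
    have htr' : Y 1 1 - 1 + (Y 2 2 - 1) = 0 := by simpa [hN, blk] using htr
    ext i j
    fin_cases i <;> fin_cases j <;> simp [vecMulVec, h01, h02, h10, h20, h00, e01, e10] <;>
      first | linear_combination -e00 | linear_combination htr' - e11 | linear_combination -e11 - htr'
  by_cases hv : vecMulVec ![0, v 0, v 1] ![0, w 0, w 1] = (0 : M3 K)
  · rw [hYeq, hv, add_zero] at hY
    have h1 := (hY.eq S.lift_one)
    have : g = 1 := Subtype.ext h1
    rw [this, orderOf_one] at hg
    exact (Fact.out : p.Prime).ne_one hg.symm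
  · refine hY.not_tv ⟨1, ![0, v 0, v 1], ![0, w 0, w 1], one_ne_zero, ?_, ?_, ?_, by rw [one_smul, hYeq]⟩
    · intro h; exact hv (by rw [h, zero_vecMulVec])
    · intro h; exact hv (by rw [h, vecMulVec_zero])
    · simpa [dotProduct, Fin.sum_univ_three, Fin.sum_univ_two] using hwv

include p in
/-- **The image on the axis is polyhedral.** -/
theorem polyhedral (h : ¬ Cfsg.HasNormalPComplement 2 (centralizer ({t} : Set G))) :
    Nonempty (B.ρ.range ≃* alternatingGroup (Fin 4)) ∨ Nonempty (B.ρ.range ≃* Equiv.Perm (Fin 4)) ∨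
      Nonempty (B.ρ.range ≃* alternatingGroup (Fin 5)) := by
  haveI := Fact.mk Nat.prime_two
  haveI : Finite B.ρ.range := Finite.of_surjective _ B.ρ.rangeRestrict_surjective
  have hp : ¬ p ∣ Nat.card B.ρ.range := fun hd =>
    B.not_dvd_card p (hd.trans (Subgroup.card_range_dvd B.ρ))
  have hker : B.ρ.rangeRestrict.ker ≤ center (centralizer ({t} : Set G)) := by
    rw [MonoidHom.ker_rangeRestrict]; exact B.ker_le_center
  have hab : ∀ (A : Subgroup B.ρ.range), IsCyclic A → A.index ∣ 2 → False := by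
    intro A hA hidx
    apply h
    set N := A.comap B.ρ.rangeRestrict with hN
    have hNi : N.index = A.index := A.index_comap_of_surjective B.ρ.rangeRestrict_surjective
    have : N.Normal := by
      rcases (Nat.dvd_prime Nat.prime_two).1 hidx with h1 | h1
      · rw [show N = ⊤ from Subgroup.index_eq_one.1 (hNi.trans h1)]; infer_instance
      · exact normal_of_index_eq_two (hNi.trans h1)
    obtain ⟨k, -, hk⟩ := (Nat.dvd_prime_pow Nat.prime_two).1 (hidx.trans (dvd_of_eq (pow_one 2).symm))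
    refine Transfer.hasNormalPComplement_of_normal (hNi.trans hk) ?_
    let f : N →* A := (B.ρ.rangeRestrict.comp N.subtype).codRestrict A fun x => x.2
    have hcomm : ∀ a b : N, a * b = b * a := by
      intro a b
      refine commutative_of_cyclic_center_quotient f (fun x hx => ?_) a b
      have h1 : (x : centralizer ({t} : Set G)) ∈ B.ρ.rangeRestrict.ker := congrArg Subtype.val hx
      rw [Subgroup.mem_center_iff]
      exact fun y => Subtype.ext (Subgroup.mem_center_iff.1 (hker h1) y)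
    letI : CommGroup N := { (inferInstance : Group N) with mul_comm := hcomm }
    exact Transfer.hasNormalPComplement_of_isNilpotent 2
  rcases PSL2.classify_coprime B.ρ.range p hp with ⟨P, hP⟩ | ⟨n, hn2, -, -, ⟨e⟩⟩ | h3
  · refine (hab ⊤ ?_ (by rw [index_top]; norm_num)).elim
    have hall : MulAction.stabilizer B.ρ.range P = ⊤ := eq_top_iff.2 fun x _ => hP x x.2
    have hc : IsCyclic (MulAction.stabilizer B.ρ.range P) :=
      PSL2.isCyclic_stab _ p P (PSL2.stab_no_unip _ p hp P)
    exact hall ▸ hc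
  · refine (hab ((zpowers (DihedralGroup.r 1 : DihedralGroup n)).comap e.toMonoidHom) ?_ ?_).elim
    · exact isCyclic_of_injective ((e.toMonoidHom.comp (Subgroup.subtype _)).codRestrict
        (zpowers (DihedralGroup.r 1 : DihedralGroup n)) fun x => x.2)
        (fun x y hxy => Subtype.ext (e.injective (congrArg Subtype.val hxy)))
    · rw [Subgroup.index_comap_of_surjective _ e.surjective]
      have h1 := Subgroup.card_mul_index (zpowers (DihedralGroup.r 1 : DihedralGroup n))
      rw [Nat.card_zpowers, DihedralGroup.orderOf_r_one, DihedralGroup.nat_card, mul_comm 2 n] at h1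
      exact dvd_of_eq (Nat.eq_of_mul_eq_mul_left (by omega : 0 < n) h1)
  · exact h3

end Setup.Based

/-- Every involution is based in suitable coordinates. -/
theorem Setup.exists_based [IsAlgClosed K] (h2 : (2 : K) ≠ 0) {t : G} (ht : orderOf t = 2) :
    ∃ P : GL (Fin 3) K, (S.rebase P).Based t := by
  obtain ⟨X, hX⟩ := S.exists_lift t
  obtain ⟨c, hc, hc2⟩ := S.lift_one.unique (show S.Lift 1 (X ^ 2) from by
    have := hX.pow 2
    rwa [← ht, pow_orderOf_eq_one, ht] at this)
  obtain ⟨r, hr⟩ := IsAlgClosed.exists_pow_nat_eq c (n := 2) (by norm_num)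
  have hr0 : r ≠ 0 := fun h => hc (by rw [← hr, h, zero_pow two_ne_zero])
  have hY : S.Lift t (r⁻¹ • X) := hX.smul (inv_ne_zero hr0)
  have hY2 : (r⁻¹ • X) ^ 2 = 1 := by
    rw [smul_pow, hc2, smul_smul, inv_pow, hr, inv_mul_cancel₀ hc, one_smul]
  obtain ⟨P, d, hP⟩ := exists_diag hY2 (by exact_mod_cast h2)
  have hD := rebase_lift hY P
  rw [hP] at hD
  have hd : ∀ i, d i = 1 ∨ d i = -1 := by
    intro i
    have h1 : diagonal d ^ 2 = (1 : M3 K) := by
      rw [← hP, pow_two]
      calc (P : M3 K) * (r⁻¹ • X) * (↑P⁻¹ : M3 K) * ((P : M3 K) * (r⁻¹ • X) * (↑P⁻¹ : M3 K))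
          = (P : M3 K) * (r⁻¹ • X) * ((↑P⁻¹ : M3 K) * (P : M3 K)) * (r⁻¹ • X) * (↑P⁻¹ : M3 K) := by
            simp only [mul_assoc]
        _ = (P : M3 K) * ((r⁻¹ • X) ^ 2) * (↑P⁻¹ : M3 K) := by
            rw [← Units.val_mul, inv_mul_cancel, Units.val_one, mul_one, pow_two]
            simp only [mul_assoc]
        _ = 1 := by rw [hY2, mul_one, ← Units.val_mul, mul_inv_cancel, Units.val_one]
    have h2' := congrFun (congrFun h1 i) i
    rw [pow_two, diagonal_mul_diagonal, diagonal_apply_eq, one_apply_eq] at h2'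
    exact mul_self_eq_one_iff.1 h2'
  have hne : ∀ c : K, d ≠ fun _ => c := by
    intro c hdc
    rw [hdc] at hD
    have := hD.eq_one_of_diag
    rw [this, orderOf_one] at ht
    norm_num at ht
  -- coordinates: one eigenvalue is alone
  obtain ⟨σ, e, he, hσ⟩ : ∃ (σ : Equiv.Perm (Fin 3)) (e : K), e ≠ 0 ∧
      ∀ i, e * d (σ i) = ![1, -1, -1] i := by
    rcases hd 0 with h0 | h0 <;> rcases hd 1 with h1 | h1 <;> rcases hd 2 with h2 | h2
    · exact absurd (funext fun i => by fin_cases i <;> simp [h0, h1, h2]) (hne 1)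
    · exact ⟨Equiv.swap 0 2, -1, by norm_num, fun i => by fin_cases i <;> simp [h0, h1, h2, Equiv.swap_apply_def]⟩
    · exact ⟨Equiv.swap 0 1, -1, by norm_num, fun i => by fin_cases i <;> simp [h0, h1, h2, Equiv.swap_apply_def]⟩
    · exact ⟨1, 1, one_ne_zero, fun i => by fin_cases i <;> simp [h0, h1, h2]⟩
    · exact ⟨1, -1, by norm_num, fun i => by fin_cases i <;> simp [h0, h1, h2]⟩
    · exact ⟨Equiv.swap 0 1, 1, one_ne_zero, fun i => by fin_cases i <;> simp [h0, h1, h2, Equiv.swap_apply_def]⟩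
    · exact ⟨Equiv.swap 0 2, 1, one_ne_zero, fun i => by fin_cases i <;> simp [h0, h1, h2, Equiv.swap_apply_def]⟩
    · exact absurd (funext fun i => by fin_cases i <;> simp [h0, h1, h2]) (hne (-1))
  let Q : GL (Fin 3) K := ⟨σ.permMatrix K, σ⁻¹.permMatrix K,
    by rw [← Matrix.permMatrix_mul]; simp, by rw [← Matrix.permMatrix_mul]; simp⟩
  refine ⟨Q * P, ?_, h2⟩
  have hD2 := rebase_lift (hY.smul he) (Q * P)
  convert hD2 using 1
  rw [Units.val_mul, _root_.mul_inv_rev, Units.val_mul, Matrix.mul_smul, Matrix.smul_mul]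
  rw [show (Q : M3 K) * (P : M3 K) * (r⁻¹ • X) * ((↑P⁻¹ : M3 K) * (↑Q⁻¹ : M3 K)) =
    (Q : M3 K) * ((P : M3 K) * (r⁻¹ • X) * (↑P⁻¹ : M3 K)) * (↑Q⁻¹ : M3 K) by simp only [mul_assoc], hP]
  show T0 = e • (σ.permMatrix K * diagonal d * σ⁻¹.permMatrix K)
  rw [Equiv.Perm.permMatrix, Equiv.Perm.permMatrix, PEquiv.toMatrix_toPEquiv_mul,
    PEquiv.mul_toMatrix_toPEquiv, Matrix.submatrix_submatrix]
  ext i j
  simp only [T0, Matrix.smul_apply, Matrix.submatrix_apply, diagonal_apply, Function.comp_apply, id,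
    smul_eq_mul]
  have hj : (Equiv.symm σ⁻¹) j = σ j := rfl
  rw [hj]
  by_cases hij : i = j
  · subst hij; simpa using (hσ i).symm
  · simp [hij]

end Cfsg.Agent.Mitchell
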